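import Groth.Agent.Lefpen.H510.ZClass
import Groth.Agent.Etcore.LimBC1L
import Groth.Agent.Sga4A.EtStalkMor
import Groth.Agent.Sga4h.BidGeoData

/-!
# The two point argument

Let `f : X ⟶ Y` be quasi-compact and quasi-separated, `ξ : Spec Ω ⟶ Y` a geometric point which is a cofiltered
limit of étale `Y`-schemes, and `F` a sheaf on `X` such that every section of `R^n f_* F` is locally the restriction
of a global section (for instance `R^n f_* F` constant). Then every `σ : Spec Ω ⟶ Spec Ω` over `Y` acts as the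
identity on `H^n(X ×_Y Spec Ω, F)` (`res_eq_self`).
-/

set_option autoImplicit false
universe u
open CategoryTheory CategoryTheory.Limits AlgebraicGeometry Opposite Abelian
open scoped Groth.Agent.Etcore.EtInst
open Groth.Agent.Etcore.EtInst

namespace Groth.Agent.Lefpen.H510.TwoPoint

open Groth.Agent.Etcore.HQ Groth.Agent.Etcore.PullCoh Groth.Agent.Etcore.HpullCalc
  Groth.Agent.Etcore Groth.Agent.CurvesA Groth.Agent.Lefpen.H510.ZClass
  Groth.Agent.Sga4B.RpushSec930 Groth.Agent.EtpbcB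
open Groth.Agent.EtpbcA.CdDiesEt (Zf)
open Groth.Agent.Etcore.LimBC0 (mB mB_fst mB_hom mZ mZ_fst mZ_snd mZ_mB mB_map)

attribute [local instance] pfl

variable {X Y : Scheme.{u}} (f : X ⟶ Y) (F : EtCoh.Ab X) (n : ℕ)

/-- The class on `X ×_Y Z` of an element of `Ext^n(Z_{X ×_Y V}, F)`, for `b : Z ⟶ V`. -/
noncomputable def zB {Z : Scheme.{u}} {z : Z ⟶ Y} {V : Y.Etale} (b : Z ⟶ V.left) (hb : b ≫ V.hom = z) :
    Ext.{u + 1} ((Zf X).obj ((EtCoh.bc f).obj V)) F n →+ HQ F (pullback.fst f z) n :=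
  zc F (pullback.fst f z) (mB f b hb) (mB_hom f b hb) n

theorem res_zB {Z Z' : Scheme.{u}} {z : Z ⟶ Y} {z' : Z' ⟶ Y} (a : Z' ⟶ Z) (h : a ≫ z = z') {V : Y.Etale}
    (b : Z ⟶ V.left) (hb : b ≫ V.hom = z) (b' : Z' ⟶ V.left) (hb' : b' ≫ V.hom = z') (e : a ≫ b = b')
    (x : Ext.{u + 1} ((Zf X).obj ((EtCoh.bc f).obj V)) F n) :
    res F (mZ f a h) (mZ_fst f a h) n (zB f F n b hb x) = zB f F n b' hb' x :=
  res_zc F _ _ _ _ _ _ (mZ_mB f a h b hb b' hb' e) n x

theorem zB_mk₀_comp {Z : Scheme.{u}} {z : Z ⟶ Y} {V V' : Y.Etale} (c : V' ⟶ V) (b' : Z ⟶ V'.left)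
    (hb' : b' ≫ V'.hom = z) (b : Z ⟶ V.left) (hb : b ≫ V.hom = z) (e : b' ≫ c.left = b)
    (x : Ext.{u + 1} ((Zf X).obj ((EtCoh.bc f).obj V)) F n) :
    zB f F n b' hb' ((Ext.mk₀ ((Zf X).map ((EtCoh.bc f).map c))).comp x (zero_add n)) =
      zB f F n b hb x :=
  zc_mk₀_comp F _ _ _ _ _ _ (mB_map f c b' hb' b hb e) n x

/-- Classes on `X ×_Y V` come from `Ext^n(Z_{X ×_Y V}, F)`. -/
theorem zB_surjective (V : Y.Etale) :
    Function.Surjective (zB f F n (𝟙 V.left) (Category.id_comp V.hom)) := by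
  have h1 : IsIso (mB f (𝟙 V.left) (Category.id_comp V.hom)) := by
    have h2 : IsPullback (RpushLoc.pr f V) (Big.bcFst f V) f V.hom :=
      (IsPullback.of_hasPullback V.hom f).flip
    have h3 : mB f (𝟙 V.left) (Category.id_comp V.hom) = h2.isoPullback.inv := by
      apply Big.hom_ext_bc
      · rw [mB_fst, Category.comp_id]
        exact (h2.isoPullback_inv_snd).symm
      · rw [mB_hom]
        exact (h2.isoPullback_inv_fst).symm
    rw [h3]
    infer_instance
  intro y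
  obtain ⟨y', hy'⟩ := (LimBC1.res_bijective F (mB f (𝟙 V.left) (Category.id_comp V.hom))
    (mB_hom f (𝟙 V.left) (Category.id_comp V.hom)) n).2 y
  obtain ⟨x, rfl⟩ := zc_surjective ((EtCoh.bc f).obj V) n F y'
  refine ⟨x, ?_⟩
  rw [← hy']
  exact (res_zc F (mB f (𝟙 V.left) (Category.id_comp V.hom))
    (mB_hom f (𝟙 V.left) (Category.id_comp V.hom)) (𝟙 _) (Category.id_comp _) _ _
    (Category.comp_id _) n x).symm

/-- Two classes with the same section of `R^n f_* F` have the same restriction to geometric fibres. -/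
theorem zB_eq_of_sec_eq {Ω : Type u} [Field Ω] [IsSepClosed Ω] {V : Y.Etale}
    {ξ : Spec (CommRingCat.of Ω) ⟶ Y} (u : Spec (CommRingCat.of Ω) ⟶ V.left) (hu : u ≫ V.hom = ξ)
    (x y : Ext.{u + 1} ((Zf X).obj ((EtCoh.bc f).obj V)) F n)
    (h : Sga4B.RpushSec930.sec f n F V x = Sga4B.RpushSec930.sec f n F V y) :
    zB f F n u hu x = zB f F n u hu y := by
  obtain ⟨S, hS, H⟩ := exists_sieve_of_sec_eq_zero f n F (x - y) (by rw [map_sub, h, sub_self])
  rw [Groth.Agent.Etbase.EtSite.mem_iff] at hS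
  obtain ⟨V', g, v', hg, hv⟩ := hS (u default)
  obtain ⟨u', hu', -⟩ := Scheme.exists_fac_of_etale_of_isSepClosed g.left u v' hv
  have hw : u' ≫ V'.hom = ξ := by
    have : g.left ≫ V.hom = V'.hom := Over.w g.hom
    rw [← this, ← Category.assoc, hu', hu]
  have h1 := H V' g hg
  have h2 := zB_mk₀_comp f F n g u' hw u hu hu' (x - y)
  rw [h1, map_zero, map_sub] at h2
  exact (sub_eq_zero.1 h2.symm)

/-- Restriction of sections to an étale `Y`-scheme. -/
noncomputable def toTop (V : Y.Etale) : V ⟶ EtCoh.top Y := Groth.Agent.EtpbcB.Big.etHom V.hom (Category.comp_id _)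

theorem toTop_left (V : Y.Etale) : (toTop V).left = V.hom := rfl

theorem comp_toTop {V V' : Y.Etale} (g : V' ⟶ V) : g ≫ toTop V = toTop V' := by
  apply MorphismProperty.Over.Hom.ext
  exact Over.w g.hom

/-- Every section is locally the restriction of a global section. -/
def LocGlob (E : EtCoh.Ab Y) : Prop :=
  ∀ (V : Y.Etale) (s : EtCoh.sect E V) (v : V.left), ∃ (V' : Y.Etale) (g : V' ⟶ V) (v' : V'.left)
    (t : EtCoh.sect E (EtCoh.top Y)), g.left v' = v ∧ E.obj.map g.op s = E.obj.map (toTop V').op t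

theorem LocGlob.of_iso {E E' : EtCoh.Ab Y} (e : E ≅ E') (h : LocGlob E) : LocGlob E' := by
  intro V s v
  obtain ⟨V', g, v', t, hv, ht⟩ := h V (e.inv.hom.app (op V) s) v
  refine ⟨V', g, v', e.hom.hom.app _ t, hv, ?_⟩
  have h1 := ConcreteCategory.congr_hom (e.hom.hom.naturality g.op) (e.inv.hom.app (op V) s)
  have h2 := ConcreteCategory.congr_hom (e.hom.hom.naturality (toTop V').op) t
  have h3 : e.hom.hom.app (op V) (e.inv.hom.app (op V) s) = s :=
    congrArg (fun a => a.hom.app (op V) s) e.inv_hom_id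
  have h4 : e.hom.hom.app (op V') (E.obj.map g.op (e.inv.hom.app (op V) s)) =
    E'.obj.map g.op (e.hom.hom.app (op V) (e.inv.hom.app (op V) s)) := h1
  have h5 : e.hom.hom.app (op V') (E.obj.map (toTop V').op t) =
    E'.obj.map (toTop V').op (e.hom.hom.app _ t) := h2
  rw [← h5, ← ht, h4, h3]

/-- Constant sheaves. -/
theorem locGlob_const (A : AddCommGrpCat.{u + 1}) :
    LocGlob ((constantSheaf Y.smallEtaleTopology AddCommGrpCat.{u + 1}).obj A) := by
  intro V s v
  let P : (Y.Etale)ᵒᵖ ⥤ AddCommGrpCat.{u + 1} := (Functor.const _).obj A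
  have h5 := Presheaf.imageSieve_mem Y.smallEtaleTopology (toSheafify Y.smallEtaleTopology P)
    (U := op V) s
  rw [Groth.Agent.Etbase.EtSite.mem_iff] at h5
  obtain ⟨V', g, v', hg, hv⟩ := h5 v
  obtain ⟨a, ha⟩ := hg
  refine ⟨V', g, v', (toSheafify Y.smallEtaleTopology P).app (op (EtCoh.top Y)) a, hv, ?_⟩
  have h1 := ConcreteCategory.congr_hom
    ((toSheafify Y.smallEtaleTopology P).naturality (toTop V').op) a
  exact ha.symm.trans h1

variable {f F n}

/-- A class whose section of `R^n f_* F` is global has the same restriction to all the geometric fibres over one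
geometric point of `Y`. -/
theorem zB_eq_of_global {Ω : Type u} [Field Ω] [IsSepClosed Ω] {V : Y.Etale}
    {ξ : Spec (CommRingCat.of Ω) ⟶ Y} (u₁ u₂ : Spec (CommRingCat.of Ω) ⟶ V.left)
    (h₁ : u₁ ≫ V.hom = ξ) (h₂ : u₂ ≫ V.hom = ξ)
    (x : Ext.{u + 1} ((Zf X).obj ((EtCoh.bc f).obj V)) F n)
    (t : EtCoh.sect ((EtCoh.Rpush f n).obj F) (EtCoh.top Y))
    (h : Sga4B.RpushSec930.sec f n F V x = ((EtCoh.Rpush f n).obj F).obj.map (toTop V).op t) :
    zB f F n u₁ h₁ x = zB f F n u₂ h₂ x := by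
  obtain ⟨W, a, b, w, hw, ha, hb⟩ := Sga4A.EtStalk.exists_common_nhd u₁ h₁ u₂ h₂
  rw [← zB_mk₀_comp f F n a w hw u₁ h₁ ha x, ← zB_mk₀_comp f F n b w hw u₂ h₂ hb x]
  refine zB_eq_of_sec_eq f F n w hw _ _ ?_
  have key : ∀ c : W ⟶ V, Sga4B.RpushSec930.sec f n F W
      ((Ext.mk₀ ((Zf X).map ((EtCoh.bc f).map c))).comp x (zero_add n)) =
      ((EtCoh.Rpush f n).obj F).obj.map (toTop W).op t := by
    intro c
    refine (sec_res f n F c x).symm.trans ?_
    rw [h, ← comp_toTop c, op_comp, Functor.map_comp]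
    rfl
  rw [key a, key b]

/-- **The two point argument.** -/
theorem res_eq_self [QuasiCompact f] [QuasiSeparated f] [CompactSpace Y] [QuasiSeparatedSpace Y]
    {Ω : Type u} [Field Ω] [IsSepClosed Ω] {ξ : Spec (CommRingCat.of Ω) ⟶ Y}
    (hξ : Sga4h.BidGeoLim.IsEtLim ξ) (hE : LocGlob ((EtCoh.Rpush f n).obj F))
    (σ : Spec (CommRingCat.of Ω) ⟶ Spec (CommRingCat.of Ω)) (hσ : σ ≫ ξ = ξ)
    (x : HQ F (pullback.fst f ξ) n) :
    res F (mZ f σ hσ) (mZ_fst f σ hσ) n x = x := by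
  obtain ⟨I, _, _, D, i1, i2, i3, t, het, haff, π, ⟨hlim⟩, hπ⟩ := hξ.exists_data
  have i1' : ∀ {i j : I} (g : i ⟶ j), IsAffineHom (D.map g) := i1
  obtain ⟨j, y, hy⟩ := LimBC1.exists_stage (T := D) (c := Cone.mk (Spec (CommRingCat.of Ω)) π) hlim
    (f := f) (F := F) (fun i => t.app i) (fun i j g => (t.naturality g).trans (Category.comp_id _))
    (t := ξ) (fun i => hπ i) (LimBC1.limSurj n) x
  have := het j
  let V : Y.Etale := Scheme.Etale.mk (t.app j)
  let u : Spec (CommRingCat.of Ω) ⟶ V.left := π.app j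
  have hu : u ≫ V.hom = ξ := hπ j
  obtain ⟨x', hx'⟩ := zB_surjective f F n V y
  have hx : zB f F n u hu x' = x := by
    rw [← hy, ← hx']
    exact (res_zB f F n u hu (𝟙 V.left) (Category.id_comp V.hom) u hu (Category.comp_id _) x').symm
  obtain ⟨V', g, v', s, hv, hs⟩ := hE V (Sga4B.RpushSec930.sec f n F V x') (u default)
  obtain ⟨u', hu', -⟩ := Scheme.exists_fac_of_etale_of_isSepClosed g.left u v' hv
  have hw : u' ≫ V'.hom = ξ := by
    have : g.left ≫ V.hom = V'.hom := Over.w g.hom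
    rw [← this, ← Category.assoc, hu', hu]
  have h1 := zB_mk₀_comp f F n g u' hw u hu hu' x'
  rw [hx] at h1
  have h2 := (sec_res f n F g x').symm.trans hs
  have h3 := res_zB f F n σ hσ u' hw (σ ≫ u') (by rw [Category.assoc, hw, hσ]) rfl
    ((Ext.mk₀ ((Zf X).map ((EtCoh.bc f).map g))).comp x' (zero_add n))
  rw [← h1]
  refine h3.trans ?_
  exact zB_eq_of_global (σ ≫ u') u' _ hw _ s h2

end Groth.Agent.Lefpen.H510.TwoPoint
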