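import Groth.Agent.Lefpen.H713.RingPt
import Groth.Agent.Lefpen.H723.P1Pt
import Groth.Agent.Lefpen.H510.TwoPoint
import Groth.Agent.Etcore.HC

/-!
# Galois action on the cohomology of the geometric generic fibre of a family over `P^1`

* `isEtLim_geomGenPt`: the geometric generic point of `P^1` is a cofiltered limit of étale schemes;
* `HC_galAct`, `Hmap_galAct`: if every section of `R^n ρ_* M` is locally the restriction of a global section (for
  instance `R^n ρ_* M` constant) then `Aut(Ω/k(t))` acts trivially on `H^n(X'_Ω, M)`.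
-/

set_option autoImplicit false
universe u
open CategoryTheory CategoryTheory.Limits AlgebraicGeometry Opposite Abelian
open scoped Groth.Agent.Etcore.EtInst
open Groth.Agent.Etcore.EtInst

namespace Groth.Agent.Lefpen.H510.PencilAct

open Groth.Agent.Sga5.ProjChart Groth.Agent.Sga5.ProjSmooth Groth.Agent.Lefpen.H713.RingPt
open Groth.Agent.Etcore.HQ Groth.Agent.Etcore.PullCoh Groth.Agent.Etcore.HpullCalc
  Groth.Agent.Etcore Groth.Agent.Lefpen.H510.TwoPoint
open Groth.Agent.Etcore.LimBC0 (mZ mZ_fst mZ_snd)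

section Geom

variable (k : Type u) [Field k]

instance isAffineHom_chart : IsAffineHom (chart 1 k 0) := by
  have h1 : IsAffineHom (chart 1 k 0 ≫ CohB1.ProjSpace.toSpec 1 k) := by
    rw [chart_toSpec]
    infer_instance
  exact IsAffineHom.of_comp _ (CohB1.ProjSpace.toSpec 1 k)

variable (Ω : Type u) [Field Ω] [Algebra (RatFunc k) Ω]

theorem geomGenPt_eq [Algebra k Ω] (h : (algebraMap (RatFunc k) Ω).comp (algebraMap k (RatFunc k)) =
      algebraMap k Ω) :
    LefMon.geomGenPt k Ω = ringPt k Ω (algebraMap (RatFunc k) Ω RatFunc.X) := by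
  rw [LefMon.geomGenPt, LefMon.genPt, fieldPt_eq, map_ringPt k _ h]

/-- The geometric generic point of the line is a cofiltered limit of étale schemes over the line. -/
theorem isEtLim_geomGenPt [Algebra.IsSeparable (RatFunc k) Ω] :
    Sga4h.BidGeoLim.IsEtLim (LefMon.geomGenPt k Ω) := by
  let al1 : Algebra k Ω := ((algebraMap (RatFunc k) Ω).comp (algebraMap k (RatFunc k))).toAlgebra
  rw [geomGenPt_eq k Ω rfl, ringPt]
  let e : MvPolynomial (Fin 1) k ≃+* Polynomial k :=
    (MvPolynomial.uniqueAlgEquiv k (Fin 1)).toRingEquiv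
  let al2 : Algebra (MvPolynomial (Fin 1) k) (RatFunc k) :=
    ((algebraMap (Polynomial k) (RatFunc k)).comp e.toRingHom).toAlgebra
  let al3 : Algebra (MvPolynomial (Fin 1) k) Ω :=
    ((algebraMap (RatFunc k) Ω).comp (algebraMap (MvPolynomial (Fin 1) k) (RatFunc k))).toAlgebra
  have tow : IsScalarTower (MvPolynomial (Fin 1) k) (RatFunc k) Ω := IsScalarTower.of_algebraMap_eq' rfl
  have hfrac : IsFractionRing (MvPolynomial (Fin 1) k) (RatFunc k) := by
    have h1 := IsLocalization.isLocalization_of_base_ringEquiv (nonZeroDivisors (Polynomial k))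
      (RatFunc k) e.symm
    have h2 : Submonoid.map e.symm (nonZeroDivisors (Polynomial k)) =
        nonZeroDivisors (MvPolynomial (Fin 1) k) := MulEquivClass.map_nonZeroDivisors e.symm
    have h3 : ((algebraMap (Polynomial k) (RatFunc k)).comp e.symm.symm.toRingHom).toAlgebra = al2 := rfl
    rw [h3] at h1
    rw [h2] at h1
    exact h1
  have h := Sga4h.BidGeoLim.isEtLim_toBase (MvPolynomial (Fin 1) k) (RatFunc k) Ω
  have h2 : Pi1A.FGLimit.toBase (MvPolynomial (Fin 1) k) Ω =
      Spec.map (CommRingCat.ofHom (ev k Ω (algebraMap (RatFunc k) Ω RatFunc.X))) := by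
    refine congrArg (fun φ => Spec.map (CommRingCat.ofHom φ)) ?_
    apply ext_poly
    · intro a
      rw [ev_C]
      change algebraMap (RatFunc k) Ω (algebraMap (Polynomial k) (RatFunc k)
        (MvPolynomial.uniqueAlgEquiv k (Fin 1) (MvPolynomial.C a))) =
          algebraMap (RatFunc k) Ω (algebraMap k (RatFunc k) a)
      have h4 : MvPolynomial.uniqueAlgEquiv k (Fin 1) (MvPolynomial.C a) = Polynomial.C a :=
        (MvPolynomial.uniqueAlgEquiv k (Fin 1)).commutes a
      rw [h4]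
      congr 1
    · rw [ev_X]
      change algebraMap (RatFunc k) Ω (algebraMap (Polynomial k) (RatFunc k)
        (MvPolynomial.uniqueAlgEquiv k (Fin 1) (MvPolynomial.X 0))) = _
      have h4 : MvPolynomial.uniqueAlgEquiv k (Fin 1) (MvPolynomial.X 0) = Polynomial.X := by
        simp
      rw [h4, RatFunc.algebraMap_X]
  rw [h2] at h
  exact h.comp (chart 1 k 0)

end Geom

section Act

attribute [local instance] pfl

/-- Comparison of `res` and `HC` for constant coefficients. -/
theorem HC_pullConst {X : Scheme.{u}} (M : Type) [AddCommGroup M] {Z Z' : Scheme.{u}} {q : Z ⟶ X}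
    {q' : Z' ⟶ X} (g : Z' ⟶ Z) (h : g ≫ q = q') (n : ℕ) (x : HQ (EtCoh.const X M) q n) :
    HC.HC M g n (HHmap (EtCore.pullConst q M).hom n x) =
      HHmap (EtCore.pullConst q' M).hom n (res (EtCoh.const X M) g h n x) := by
  rw [HC.HC_apply, hp_map, ← HHmap_comp, pullConst_comp g q q' h M, HHmap_comp, res_apply]

variable {k : Type u} [Field k] {X' : Scheme.{u}} (ρ : X' ⟶ CohB1.ProjSpace 1 k)
  [QuasiCompact ρ] [QuasiSeparated ρ] (Ω : Type u) [Field Ω] [Algebra (RatFunc k) Ω]
  [IsSepClosure (RatFunc k) Ω]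

omit [QuasiCompact ρ] [QuasiSeparated ρ] [IsSepClosure (RatFunc k) Ω] in
theorem galAct_eq (σ : Ω ≃ₐ[RatFunc k] Ω)
    (h : Spec.map (CommRingCat.ofHom (σ : Ω →+* Ω)) ≫ LefMon.geomGenPt k Ω = LefMon.geomGenPt k Ω) :
    LefMon.galAct k ρ Ω σ = mZ ρ (Spec.map (CommRingCat.ofHom (σ : Ω →+* Ω))) h := by
  apply pullback.hom_ext
  · rw [mZ_fst, LefMon.galAct]
    exact (pullback.lift_fst _ _ _).trans (Category.comp_id _)
  · rw [mZ_snd, LefMon.galAct]
    exact pullback.lift_snd _ _ _

instance compactSpace_P1 : CompactSpace (CohB1.ProjSpace 1 k) := by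
  have h1 : QuasiCompact (CohB1.ProjSpace.toSpec 1 k) := inferInstance
  exact (HasAffineProperty.iff_of_isAffine (P := @QuasiCompact)).1 h1

instance quasiSeparatedSpace_P1 : QuasiSeparatedSpace (CohB1.ProjSpace 1 k) := by
  have h1 : QuasiSeparated (CohB1.ProjSpace.toSpec 1 k) := inferInstance
  exact quasiSeparatedSpace_of_quasiSeparated (CohB1.ProjSpace.toSpec 1 k)

/-- Trivial Galois action when `R^n ρ_* M` is constant. -/
theorem HC_galAct (M : Type) [AddCommGroup M] (n : ℕ)
    (hE : LocGlob ((EtCoh.Rpush ρ n).obj (EtCoh.const X' M))) (σ : Ω ≃ₐ[RatFunc k] Ω)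
    (x : HH (LefMon.geomFibre k ρ Ω) (EtCoh.const _ M) n) :
    HC.HC M (LefMon.galAct k ρ Ω σ) n x = x := by
  have hsep : IsSepClosed Ω := IsSepClosure.sep_closed (RatFunc k)
  have hse : Algebra.IsSeparable (RatFunc k) Ω := IsSepClosure.separable
  have h : Spec.map (CommRingCat.ofHom (σ : Ω →+* Ω)) ≫ LefMon.geomGenPt k Ω =
      LefMon.geomGenPt k Ω := by
    rw [LefMon.geomGenPt, ← Category.assoc, SGA7.spec_map_algEquiv_comp]
  obtain ⟨y, rfl⟩ := (HHmap_bijective
    (EtCore.pullConst (pullback.fst ρ (LefMon.geomGenPt k Ω)) M).hom n).2 x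
  rw [galAct_eq ρ Ω σ h, HC_pullConst M _ (mZ_fst ρ _ h) n y,
    res_eq_self (isEtLim_geomGenPt k Ω) hE _ h y]

/-- Trivial Galois action when `R^n ρ_* (Z/ℓ^ν)` is constant, with `EtAdic.Hmap`. -/
theorem Hmap_galAct (ℓ n ν : ℕ)
    (hE : LocGlob ((EtCoh.Rpush ρ n).obj (EtCoh.const X' (ZMod (ℓ ^ ν))))) (σ : Ω ≃ₐ[RatFunc k] Ω)
    (hf : PreservesFiniteLimits (EtCoh.pull (LefMon.galAct k ρ Ω σ)))
    (x : EtAdic.Hmod (LefMon.geomFibre k ρ Ω) ℓ n ν) :
    EtAdic.Hmap ℓ (LefMon.galAct k ρ Ω σ) hf n ν x = x :=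
  HC_galAct ρ Ω (ZMod (ℓ ^ ν)) n hE σ x

end Act

end Groth.Agent.Lefpen.H510.PencilAct
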