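import Groth.Agent.Etcore.HQ
import Groth.Agent.Etcore.RpushLoc
import Groth.Agent.Sga4B.RpushSec930

/-!
# Classes in `Ext^n(Z_W, F)` and in `H^n(W, F)`

For `W` étale over `X`, `q : Z ⟶ X` and `r : Z ⟶ W` over `X`, `zc F q r n : Ext^n(Z_W, F) ⟶ H^n(Z, q⁻¹F)`:
compatible with pullback (`res_zc`), with `Z_{W'} ⟶ Z_W` (`zc_mk₀_comp`), surjective for `r = 𝟙`
(`zc_surjective`).

`exists_res_eq_of_sec_eq`: two classes in `H^n(X ×_Y V, F)` with the same image in `(R^n f_* F)(V)` agree étale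
locally on `V`.
-/

set_option autoImplicit false
universe u
open CategoryTheory CategoryTheory.Limits AlgebraicGeometry Opposite Abelian
open scoped Groth.Agent.Etcore.EtInst
open Groth.Agent.Etcore.EtInst

namespace Groth.Agent.Lefpen.H510.ZClass

open Groth.Agent.Etcore.HQ Groth.Agent.Etcore.PullCoh Groth.Agent.Etcore.HpullCalc
  Groth.Agent.Etcore Groth.Agent.CurvesA
open Groth.Agent.EtpbcA.CdDiesEt (Zf)

attribute [local instance] pfl

variable {X : Scheme.{u}}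

/-- The map `Z ⟶ q⁻¹ Z_W` given by `r : Z ⟶ W`. -/
noncomputable def az {Z : Scheme.{u}} (q : Z ⟶ X) {W : X.Etale} (r : Z ⟶ W.left) (hr : r ≫ W.hom = q) :
    EtCoh.const Z ℤ ⟶ (EtCoh.pull q).obj ((Zf X).obj W) :=
  Ext.addEquiv₀ (sec ((Zf X).obj W) q r hr (SiteZU.univ.{u + 1} W))

theorem mk₀_az {Z : Scheme.{u}} (q : Z ⟶ X) {W : X.Etale} (r : Z ⟶ W.left) (hr : r ≫ W.hom = q) :
    Ext.mk₀ (az q r hr) = sec ((Zf X).obj W) q r hr (SiteZU.univ.{u + 1} W) :=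
  Ext.addEquiv₀.symm_apply_apply _

/-- The pullback to `Z` of a class in `Ext^n(Z_W, F)`. -/
noncomputable def zc (F : EtCoh.Ab X) {Z : Scheme.{u}} (q : Z ⟶ X) {W : X.Etale} (r : Z ⟶ W.left)
    (hr : r ≫ W.hom = q) (n : ℕ) : Ext.{u + 1} ((Zf X).obj W) F n →+ HQ F q n :=
  ExtMap.extMap (EtCoh.pull q) (az q r hr) F n

/-- The natural transformation with components `th`. -/
noncomputable def thN {Z Z' : Scheme.{u}} (k : Z' ⟶ Z) (q : Z ⟶ X) (q' : Z' ⟶ X) (h : k ≫ q = q') :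
    EtCoh.pull q ⋙ EtCoh.pull k ⟶ EtCoh.pull q' :=
  (theta k q q' h).hom

theorem thN_app {Z Z' : Scheme.{u}} (k : Z' ⟶ Z) (q : Z ⟶ X) (q' : Z' ⟶ X) (h : k ≫ q = q')
    (F : EtCoh.Ab X) : (thN k q q' h).app F = th k q q' h F := rfl

theorem az_comp {Z Z' : Scheme.{u}} {q : Z ⟶ X} {q' : Z' ⟶ X} (k : Z' ⟶ Z)
    (h : k ≫ q = q') {W : X.Etale} (r : Z ⟶ W.left) (hr : r ≫ W.hom = q) (r' : Z' ⟶ W.left)
    (hr' : r' ≫ W.hom = q') (e : k ≫ r = r') :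
    ((EtCore.pullConst k ℤ).inv ≫ (EtCoh.pull k).map (az q r hr)) ≫ th k q q' h ((Zf X).obj W) =
      az q' r' hr' := by
  apply (Ext.addEquiv₀ (X := EtCoh.const Z' ℤ)
    (Y := (EtCoh.pull q').obj ((Zf X).obj W))).symm.injective
  refine Eq.trans ?_ (mk₀_az q' r' hr').symm
  rw [← res_sec ((Zf X).obj W) k h r hr r' hr' e, ← mk₀_az q r hr, res_apply, hp_eq_extMap,
    ExtMap.extMap_mk₀, HHmap_apply, Ext.mk₀_comp_mk₀]
  rfl

theorem res_zc (F : EtCoh.Ab X) {Z Z' : Scheme.{u}} {q : Z ⟶ X} {q' : Z' ⟶ X} (k : Z' ⟶ Z)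
    (h : k ≫ q = q') {W : X.Etale} (r : Z ⟶ W.left) (hr : r ≫ W.hom = q) (r' : Z' ⟶ W.left)
    (hr' : r' ≫ W.hom = q') (e : k ≫ r = r') (n : ℕ) (x : Ext.{u + 1} ((Zf X).obj W) F n) :
    res F k h n (zc F q r hr n x) = zc F q' r' hr' n x := by
  rw [res_apply, hp_eq_extMap, zc, ExtMap.extMap_extMap, HHmap_apply, ← thN_app k q q' h F,
    ExtMap.extMap_natTrans (thN k q q' h), thN_app, az_comp k h r hr r' hr' e]
  rfl

theorem az_map {Z : Scheme.{u}} (q : Z ⟶ X) {W W' : X.Etale} (g : W' ⟶ W) (r' : Z ⟶ W'.left)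
    (hr' : r' ≫ W'.hom = q) (r : Z ⟶ W.left) (hr : r ≫ W.hom = q) (e : r' ≫ g.left = r) :
    az q r' hr' ≫ (EtCoh.pull q).map ((Zf X).map g) = az q r hr := by
  apply (Ext.addEquiv₀ (X := EtCoh.const Z ℤ)
    (Y := (EtCoh.pull q).obj ((Zf X).obj W))).symm.injective
  refine Eq.trans ?_ (mk₀_az q r hr).symm
  rw [← sec_res ((Zf X).obj W) q r' hr' g r hr e (SiteZU.univ.{u + 1} W)]
  have h1 : (((Zf X).map g).hom.app (op W')) (SiteZU.univ.{u + 1} W') =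
      ((Zf X).obj W).obj.map g.op (SiteZU.univ.{u + 1} W) := by
    have h2 := SiteZU.ev_map_comp.{u + 1} g (𝟙 ((Zf X).obj W))
    rw [Category.comp_id] at h2
    exact h2
  rw [← h1, ← map_sec, ← mk₀_az q r' hr', map_apply, HHmap_apply, Ext.mk₀_comp_mk₀]
  rfl

theorem zc_mk₀_comp (F : EtCoh.Ab X) {Z : Scheme.{u}} (q : Z ⟶ X) {W W' : X.Etale} (g : W' ⟶ W)
    (r' : Z ⟶ W'.left) (hr' : r' ≫ W'.hom = q) (r : Z ⟶ W.left) (hr : r ≫ W.hom = q)
    (e : r' ≫ g.left = r) (n : ℕ) (x : Ext.{u + 1} ((Zf X).obj W) F n) :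
    zc F q r' hr' n ((Ext.mk₀ ((Zf X).map g)).comp x (zero_add n)) = zc F q r hr n x := by
  have h := ExtMap.extMap_mk₀_comp (EtCoh.pull q) (A := (Zf X).obj W) (A' := EtCoh.const Z ℤ)
    (az q r hr) (az q r' hr') ((Zf X).map g) (𝟙 (EtCoh.const Z ℤ))
    (by rw [Category.id_comp, az_map q g r' hr' r hr e]) F n x
  rw [Ext.mk₀_id_comp] at h
  exact h

/-- Classes on `W` come from `Ext^n(Z_W, F)`. -/
theorem zc_surjective (W : X.Etale) (n : ℕ) : ∀ (F : EtCoh.Ab X),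
    Function.Surjective (zc F W.hom (𝟙 W.left) (Category.id_comp _) n) := by
  induction n with
  | zero =>
    intro F y
    obtain ⟨s, rfl⟩ := (sec_bijective F W).2 y
    refine ⟨Ext.mk₀ (SiteZU.lift.{u + 1} s), ?_⟩
    rw [zc, ExtMap.extMap_mk₀, ← Ext.mk₀_comp_mk₀, mk₀_az]
    have h := map_sec (SiteZU.lift.{u + 1} (F := F) s) W.hom (𝟙 W.left) (Category.id_comp _)
      (SiteZU.univ.{u + 1} W)
    have h2 := SiteZU.ev_lift.{u + 1} (F := F) s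
    rw [SiteZU.ev_apply] at h2
    rw [h2, map_apply, HHmap_apply] at h
    exact h
  | succ n ih =>
    intro F y
    have hS := RpushLoc.injSeq_shortExact F
    obtain ⟨z, hz⟩ := exists_δ_eq hS W.hom n y (eq_zero_of_injective _ W.hom n _)
    obtain ⟨z', rfl⟩ := ih (RpushLoc.injSeq F).X₃ z
    refine ⟨z'.comp hS.extClass rfl, ?_⟩
    exact (ExtMap.extMap_extClass (EtCoh.pull W.hom) (az W.hom (𝟙 W.left) (Category.id_comp _)) hS rfl
      z').trans hz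

end Groth.Agent.Lefpen.H510.ZClass
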